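import Mathlib

/-! Osculation of spaces of polynomials coming from derivatives of rational functions with
prescribed poles. -/

set_option autoImplicit false

namespace Groth.Agent.PolyOsc

open Polynomial

variable {k : Type*} [Field k] {m : ℕ} (r : Fin m → k) (a : Fin m → ℕ)

noncomputable def pB : Polynomial k := ∏ j, (X - C (r j)) ^ a j
noncomputable def pBi (i : Fin m) : Polynomial k := ∏ j ∈ Finset.univ.erase i, (X - C (r j)) ^ a j
noncomputable def pR : Polynomial k := ∏ j, (X - C (r j))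
noncomputable def pS : Polynomial k := ∑ i, C (a i : k) * ∏ j ∈ Finset.univ.erase i, (X - C (r j))

/-- `P ↦ R B · (P / B)'`. -/
noncomputable def Φ : Polynomial k →ₗ[k] Polynomial k :=
  LinearMap.mulRight k (pR r) ∘ₗ derivative - LinearMap.mulRight k (pS r a)

lemma Φ_apply (P : Polynomial k) : Φ r a P = derivative P * pR r - P * pS r a := rfl

lemma pB_monic : (pB r a).Monic := monic_prod_of_monic _ _ fun j _ => (monic_X_sub_C _).pow _

lemma pB_natDegree : (pB r a).natDegree = ∑ j, a j := by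
  rw [pB, natDegree_prod_of_monic _ _ fun j _ => (monic_X_sub_C _).pow _]
  simp

lemma pB_eq (i : Fin m) : pB r a = pBi r a i * (X - C (r i)) ^ a i :=
  (Finset.prod_erase_mul _ _ (Finset.mem_univ i)).symm

lemma pA_eq : (∏ j, (X - C (r j)) ^ (a j + 1)) = pB r a * pR r := by
  rw [pB, pR, ← Finset.prod_mul_distrib]
  exact Finset.prod_congr rfl fun j _ => pow_succ _ _

lemma pAi_eq (i : Fin m) : (∏ j ∈ Finset.univ.erase i, (X - C (r j)) ^ (a j + 1)) =
    pBi r a i * ∏ j ∈ Finset.univ.erase i, (X - C (r j)) := by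
  rw [pBi, ← Finset.prod_mul_distrib]
  exact Finset.prod_congr rfl fun j _ => pow_succ _ _

lemma deriv_pow_mul (c : k) (n : ℕ) :
    derivative ((X - C c) ^ n) * (X - C c) = C (n : k) * (X - C c) ^ n := by
  cases n with
  | zero => simp
  | succ n => simp [derivative_pow_succ]; ring

lemma deriv_pB : derivative (pB r a) * pR r = pB r a * pS r a := by
  rw [pB, derivative_prod_finset, Finset.sum_mul, pS, Finset.mul_sum]
  refine Finset.sum_congr rfl fun i _ => ?_
  rw [pR, ← Finset.prod_erase_mul Finset.univ (fun j => X - C (r j)) (Finset.mem_univ i),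
    ← Finset.prod_erase_mul Finset.univ (fun j => (X - C (r j)) ^ a j) (Finset.mem_univ i)]
  linear_combination (∏ j ∈ Finset.univ.erase i, (X - C (r j)) ^ a j) *
    (∏ j ∈ Finset.univ.erase i, (X - C (r j))) * deriv_pow_mul (r i) (a i)

lemma Φ_pB_mul (Q : Polynomial k) :
    Φ r a (pB r a * Q) = (∏ j, (X - C (r j)) ^ (a j + 1)) * derivative Q := by
  rw [pA_eq, Φ_apply, derivative_mul]
  linear_combination Q * deriv_pB r a

lemma Φ_pB : Φ r a (pB r a) = 0 := by simpa using Φ_pB_mul r a 1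

lemma Φ_pBi_mul (i : Fin m) (l : ℕ) :
    Φ r a (pBi r a i * (X - C (r i)) ^ l) =
      C ((l : k) - a i) * ((∏ j ∈ Finset.univ.erase i, (X - C (r j)) ^ (a j + 1)) * (X - C (r i)) ^ l) := by
  have h1 := deriv_pB r a
  rw [pB_eq r a i, derivative_mul] at h1
  have h2 := deriv_pow_mul (r i) (a i)
  have h3 := deriv_pow_mul (r i) l
  have hne : (X - C (r i)) ^ a i * (X - C (r i)) ≠ 0 := mul_ne_zero (pow_ne_zero _ (X_sub_C_ne_zero _)) (X_sub_C_ne_zero _)
  refine mul_right_cancel₀ hne ?_
  rw [Φ_apply, pAi_eq, derivative_mul, map_sub]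
  have hR : pR r = (∏ j ∈ Finset.univ.erase i, (X - C (r j))) * (X - C (r i)) :=
    (Finset.prod_erase_mul _ _ (Finset.mem_univ i)).symm
  rw [hR] at h1 ⊢
  linear_combination (X - C (r i)) ^ l * (X - C (r i)) * h1 +
    pBi r a i * (X - C (r i)) ^ a i * (∏ j ∈ Finset.univ.erase i, (X - C (r j))) * (X - C (r i)) * h3 -
    pBi r a i * (X - C (r i)) ^ l * (∏ j ∈ Finset.univ.erase i, (X - C (r j))) * (X - C (r i)) * h2

lemma mem_degreeLT_sub (c : k) (n : ℕ) (h : Polynomial k) (hh : h ∈ degreeLT k n) :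
    h ∈ Submodule.span k ((fun l => (X - C c) ^ l) '' Set.Iio n) := by
  rw [← sum_taylor_eq h c, sum_def]
  refine Submodule.sum_mem _ fun l hl => ?_
  rw [← smul_eq_C_mul]
  refine Submodule.smul_mem _ _ (Submodule.subset_span ⟨l, ?_, rfl⟩)
  have hd : (taylor c h).degree < n := by rw [degree_taylor]; exact mem_degreeLT.mp hh
  exact_mod_cast lt_of_le_of_lt (le_degree_of_mem_supp l hl) hd

lemma sub_pow_mem_degreeLT (c : k) {l n : ℕ} (hl : l < n) : (X - C c) ^ l ∈ degreeLT k n := by
  rw [mem_degreeLT, degree_pow, degree_X_sub_C, nsmul_one]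
  exact_mod_cast hl

lemma pBi_monic (i : Fin m) : (pBi r a i).Monic :=
  monic_prod_of_monic _ _ fun j _ => (monic_X_sub_C _).pow _

lemma pBi_natDegree (i : Fin m) : (pBi r a i).natDegree + a i = ∑ j, a j := by
  rw [pBi, natDegree_prod_of_monic _ _ fun j _ => (monic_X_sub_C _).pow _,
    ← Finset.sum_erase_add _ _ (Finset.mem_univ i)]
  simp

lemma parfrac (hr : Function.Injective r) (s : Finset (Fin m)) :
    ∀ P : Polynomial k, P.degree < (∑ j ∈ s, a j : ℕ) → ∃ u : Fin m → Polynomial k,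
      (∀ i ∈ s, u i ∈ degreeLT k (a i)) ∧ P = ∑ i ∈ s, u i * ∏ j ∈ s.erase i, (X - C (r j)) ^ a j := by
  induction s using Finset.induction_on with
  | empty =>
    intro P hP
    refine ⟨0, by simp, ?_⟩
    rw [Finset.sum_empty, Nat.cast_zero, Nat.WithBot.lt_zero_iff] at hP
    simpa using hP
  | @insert i s hi ih =>
    intro P hP
    set Bs := ∏ j ∈ s, (X - C (r j)) ^ a j with hBs
    set T := (X - C (r i)) ^ a i with hT
    have hTm : T.Monic := (monic_X_sub_C _).pow _
    have hTd : T.natDegree = a i := by simp [hT]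
    have hBm : Bs.Monic := monic_prod_of_monic _ _ fun j _ => (monic_X_sub_C _).pow _
    have hBd : Bs.natDegree = ∑ j ∈ s, a j := by
      rw [hBs, natDegree_prod_of_monic _ _ fun j _ => (monic_X_sub_C _).pow _]; simp
    have hcop : IsCoprime T Bs := IsCoprime.prod_right fun j hj => by
      refine IsCoprime.pow (isCoprime_X_sub_C_of_isUnit_sub ?_)
      exact (sub_ne_zero.mpr fun h => hi (by rw [hr h]; exact hj)).isUnit
    obtain ⟨x, y, hxy⟩ := hcop
    set ui := (P * y) %ₘ T with hui
    have huid : ui.degree < (a i : ℕ) := by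
      have := degree_modByMonic_lt (P * y) hTm
      rwa [degree_eq_natDegree hTm.ne_zero, hTd] at this
    set Q := P * x + ((P * y) /ₘ T) * Bs with hQ
    have hPQ : P = T * Q + ui * Bs := by
      have hmod := modByMonic_add_div (P * y) T
      rw [hQ]
      linear_combination -P * hxy + (-Bs) * hmod
    have hQd : Q.degree < (∑ j ∈ s, a j : ℕ) := by
      have h1 : (T * Q).degree < (a i + ∑ j ∈ s, a j : ℕ) := by
        rw [show T * Q = P - ui * Bs by linear_combination -hPQ]
        refine lt_of_le_of_lt (degree_sub_le _ _) (max_lt (by rwa [Finset.sum_insert hi] at hP) ?_)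
        rw [degree_mul, degree_eq_natDegree hBm.ne_zero, hBd, Nat.cast_add]
        exact WithBot.add_lt_add_right (WithBot.natCast_ne_bot _) huid
      rw [degree_mul, degree_eq_natDegree hTm.ne_zero, hTd, Nat.cast_add] at h1
      exact lt_of_add_lt_add_left h1
    obtain ⟨u, hu, huQ⟩ := ih Q hQd
    classical
    refine ⟨Function.update u i ui, fun j hj => ?_, ?_⟩
    · by_cases hji : j = i
      · subst hji; rw [Function.update_self]; exact mem_degreeLT.mpr huid
      · rw [Function.update_of_ne hji]; exact hu j ((Finset.mem_insert.mp hj).resolve_left hji)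
    · rw [Finset.sum_insert hi, Function.update_self, Finset.erase_insert hi, hPQ, huQ, Finset.mul_sum, add_comm]
      refine congrArg (ui * Bs + ·) (Finset.sum_congr rfl fun j hj => ?_)
      have hji : j ≠ i := fun h => hi (h ▸ hj)
      rw [Function.update_of_ne hji, Finset.erase_insert_of_ne hji.symm,
        Finset.prod_insert (fun h => hi (Finset.mem_of_mem_erase h))]
      ring

variable [CharZero k]

lemma map_eq (hr : Function.Injective r) (c n : ℕ) (hn : n = (∑ j, a j) + c + 1) :
    (degreeLT k n).map (Φ r a) =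
      (degreeLT k c).map (LinearMap.mulLeft k (∏ j, (X - C (r j)) ^ (a j + 1))) ⊔
        ⨆ i, (degreeLT k (a i)).map
          (LinearMap.mulLeft k (∏ j ∈ Finset.univ.erase i, (X - C (r j)) ^ (a j + 1))) := by
  apply le_antisymm
  · rintro _ ⟨P, hP, rfl⟩
    have hP' : P.degree < (n : ℕ) := mem_degreeLT.mp hP
    obtain ⟨u, hu, hPu⟩ := parfrac r a hr Finset.univ (P %ₘ pB r a) (by
      have := degree_modByMonic_lt P (pB_monic r a)
      rwa [degree_eq_natDegree (pB_monic r a).ne_zero, pB_natDegree] at this)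
    rw [← modByMonic_add_div P (pB r a), map_add, hPu, map_sum, Φ_pB_mul]
    refine add_mem (Submodule.sum_mem _ fun i _ => ?_) (Submodule.mem_sup_left ⟨_, ?_, rfl⟩)
    · have h1 := mem_degreeLT_sub (r i) (a i) (u i) (hu i (Finset.mem_univ i))
      have h2 : Φ r a (u i * pBi r a i) ∈ (degreeLT k (a i)).map
          (LinearMap.mulLeft k (∏ j ∈ Finset.univ.erase i, (X - C (r j)) ^ (a j + 1))) := by
        refine Submodule.span_induction (p := fun v _ => Φ r a (v * pBi r a i) ∈ _) ?_ (by simp)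
          (fun v w _ _ hv hw => by rw [add_mul, map_add]; exact add_mem hv hw)
          (fun t v _ hv => by rw [smul_mul_assoc, map_smul]; exact Submodule.smul_mem _ _ hv) h1
        rintro _ ⟨l, hl, rfl⟩
        refine ⟨C ((l : k) - a i) * (X - C (r i)) ^ l, ?_, ?_⟩
        · rw [← smul_eq_C_mul]; exact Submodule.smul_mem _ _ (sub_pow_mem_degreeLT _ hl)
        · rw [mul_comm _ (pBi r a i), Φ_pBi_mul, LinearMap.mulLeft_apply]; ring
      exact Submodule.mem_sup_right (le_iSup (fun i => (degreeLT k (a i)).map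
          (LinearMap.mulLeft k (∏ j ∈ Finset.univ.erase i, (X - C (r j)) ^ (a j + 1)))) i h2)
    · rw [SetLike.mem_coe, mem_degreeLT]
      by_cases hq : P /ₘ pB r a = 0
      · simp [hq]
      have hle : (pB r a).natDegree + (P /ₘ pB r a).natDegree < n := by
        have hP0 : P ≠ 0 := fun h => hq (by simp [h])
        have h1 := natDegree_divByMonic P (pB_monic r a)
        have h2 : (pB r a).natDegree ≤ P.natDegree := by
          by_contra hc
          exact hq ((divByMonic_eq_zero_iff (pB_monic r a)).mpr (degree_lt_degree (not_le.mp hc)))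
        have h3 : P.natDegree < n := (natDegree_lt_iff_degree_lt hP0).mpr hP'
        omega
      rw [pB_natDegree] at hle
      refine lt_of_lt_of_le (degree_derivative_lt hq) ?_
      rw [degree_eq_natDegree hq]
      exact_mod_cast (by omega : (P /ₘ pB r a).natDegree ≤ c)
  · refine sup_le ?_ (iSup_le fun i => ?_)
    · rintro _ ⟨Q, hQ, rfl⟩
      have hQ' := mem_degreeLT_sub 0 c Q hQ
      refine Submodule.span_induction (p := fun v _ => LinearMap.mulLeft k _ v ∈ (degreeLT k n).map (Φ r a)) ?_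
        (by simp) (fun v w _ _ hv hw => by rw [map_add]; exact add_mem hv hw)
        (fun t v _ hv => by rw [map_smul]; exact Submodule.smul_mem _ _ hv) hQ'
      rintro _ ⟨l, hl, rfl⟩
      refine ⟨pB r a * (C ((l + 1 : k)⁻¹) * X ^ (l + 1)), ?_, ?_⟩
      · rw [SetLike.mem_coe, mem_degreeLT, degree_mul, degree_C_mul (inv_ne_zero (Nat.cast_add_one_ne_zero l)),
          degree_X_pow, degree_eq_natDegree (pB_monic r a).ne_zero, pB_natDegree]
        exact_mod_cast (by simp at hl; omega : (∑ j, a j) + (l + 1) < n)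
      · rw [Φ_pB_mul, LinearMap.mulLeft_apply]
        congr 1
        simp only [derivative_mul, derivative_C, zero_mul, zero_add, derivative_X_pow, Nat.cast_add, Nat.cast_one,
          Nat.add_sub_cancel, map_zero, sub_zero]
        rw [← mul_assoc, ← C_mul, inv_mul_cancel₀ (Nat.cast_add_one_ne_zero l : (l : k) + 1 ≠ 0), C_1, one_mul]
    · rintro _ ⟨Q, hQ, rfl⟩
      have hQ' := mem_degreeLT_sub (r i) (a i) Q hQ
      refine Submodule.span_induction (p := fun v _ => LinearMap.mulLeft k _ v ∈ (degreeLT k n).map (Φ r a)) ?_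
        (by simp) (fun v w _ _ hv hw => by rw [map_add]; exact add_mem hv hw)
        (fun t v _ hv => by rw [map_smul]; exact Submodule.smul_mem _ _ hv) hQ'
      rintro _ ⟨l, hl, rfl⟩
      have hl' : l < a i := hl
      have hne : (l : k) - a i ≠ 0 := sub_ne_zero.mpr (by exact_mod_cast hl'.ne)
      refine ⟨C (((l : k) - a i)⁻¹) * (pBi r a i * (X - C (r i)) ^ l), ?_, ?_⟩
      · rw [SetLike.mem_coe, mem_degreeLT, degree_C_mul (inv_ne_zero hne), degree_mul, degree_pow, degree_X_sub_C,
          nsmul_one, degree_eq_natDegree (pBi_monic r a i).ne_zero]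
        have := pBi_natDegree r a i
        exact_mod_cast (by omega : (pBi r a i).natDegree + l < n)
      · rw [← smul_eq_C_mul, map_smul, Φ_pBi_mul, smul_eq_C_mul, ← mul_assoc, ← C_mul, inv_mul_cancel₀ hne,
          C_1, one_mul, LinearMap.mulLeft_apply]

lemma Φ_eq_zero {P : Polynomial k} (h : Φ r a P = 0) : ∃ c : k, P = C c * pB r a := by
  have hBm := pB_monic r a
  have key : ∀ D : Polynomial k, Φ r a D = 0 → D ≠ 0 → D.natDegree = (pB r a).natDegree := by
    intro D hD hD0
    have hR : pR r ≠ 0 := Finset.prod_ne_zero_iff.mpr fun j _ => X_sub_C_ne_zero _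
    rw [Φ_apply] at hD
    have h1 : derivative D * (pB r a) = D * derivative (pB r a) :=
      mul_right_cancel₀ hR (by linear_combination (pB r a) * hD - D * deriv_pB r a)
    by_contra hne
    by_cases hd : D.natDegree = 0
    · rw [eq_C_of_natDegree_eq_zero hd, derivative_C, zero_mul, eq_comm, mul_eq_zero] at h1
      rcases h1 with h1 | h1
      · exact hD0 (by rw [eq_C_of_natDegree_eq_zero hd]; exact h1)
      · exact hne (by rw [hd, natDegree_eq_zero_of_derivative_eq_zero h1])
    by_cases hb : (pB r a).natDegree = 0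
    · rw [eq_C_of_natDegree_eq_zero hb, derivative_C, mul_zero, mul_eq_zero] at h1
      rcases h1 with h1 | h1
      · exact hd (natDegree_eq_zero_of_derivative_eq_zero h1)
      · exact hBm.ne_zero (by rw [eq_C_of_natDegree_eq_zero hb]; exact h1)
    have h2 := congrArg leadingCoeff h1
    rw [leadingCoeff_mul, leadingCoeff_mul, hBm.leadingCoeff, mul_one] at h2
    simp only [leadingCoeff, natDegree_derivative] at h2
    rw [coeff_derivative, coeff_derivative, Nat.sub_add_cancel (Nat.pos_of_ne_zero hd),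
      Nat.sub_add_cancel (Nat.pos_of_ne_zero hb), ← Nat.cast_add_one, ← Nat.cast_add_one,
      Nat.sub_add_cancel (Nat.pos_of_ne_zero hd), Nat.sub_add_cancel (Nat.pos_of_ne_zero hb),
      hBm.coeff_natDegree, coeff_natDegree, one_mul] at h2
    have h3 : D.leadingCoeff * ((D.natDegree : k) - (pB r a).natDegree) = 0 := by linear_combination h2
    rcases mul_eq_zero.mp h3 with h3 | h3
    · exact hD0 (leadingCoeff_eq_zero.mp h3)
    · exact hne (by exact_mod_cast sub_eq_zero.mp h3)
  refine ⟨P.coeff (pB r a).natDegree, ?_⟩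
  rw [← sub_eq_zero]
  by_contra hne
  have hd := key _ (by rw [map_sub, h, ← smul_eq_C_mul, map_smul, Φ_pB, smul_zero, sub_zero]) hne
  refine hne (leadingCoeff_eq_zero.mp ?_)
  rw [leadingCoeff, hd, coeff_sub, coeff_C_mul, hBm.coeff_natDegree, mul_one, sub_self]

lemma finrank_map (n : ℕ) (hn : (∑ j, a j) < n) :
    Module.finrank k ↥((degreeLT k n).map (Φ r a)) + 1 = n := by
  have hBmem : pB r a ∈ degreeLT k n := by
    rw [mem_degreeLT, degree_eq_natDegree (pB_monic r a).ne_zero, pB_natDegree]; exact_mod_cast hn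
  let f := (Φ r a).domRestrict (degreeLT k n)
  haveI : Module.Finite k ↥(degreeLT k n) := Module.Finite.equiv (degreeLTEquiv k n).symm
  have hfr : Module.finrank k ↥(degreeLT k n) = n := by
    rw [LinearEquiv.finrank_eq (degreeLTEquiv k n), Module.finrank_fin_fun]
  have hker : LinearMap.ker f = Submodule.span k {⟨pB r a, hBmem⟩} := by
    ext ⟨P, hP⟩
    rw [LinearMap.mem_ker, Submodule.mem_span_singleton]
    constructor
    · intro h
      obtain ⟨c, hc⟩ := Φ_eq_zero r a h
      have hc' : P = C c * pB r a := hc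
      exact ⟨c, Subtype.ext (by show c • pB r a = P; rw [hc', smul_eq_C_mul])⟩
    · rintro ⟨c, hc⟩
      rw [← hc, map_smul]
      show c • Φ r a (pB r a) = 0
      rw [Φ_pB, smul_zero]
  have h1 := LinearMap.finrank_range_add_finrank_ker f
  rw [LinearMap.range_domRestrict, hker, finrank_span_singleton (fun h => (pB_monic r a).ne_zero (congrArg Subtype.val h)), hfr] at h1
  exact h1

lemma eval_pR_ne (q : k) (hq : ∀ j, q ≠ r j) : (pR r).eval q ≠ 0 := by
  simp [pR, eval_prod, Finset.prod_ne_zero_iff, sub_ne_zero, hq]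

lemma eval_pB_ne (q : k) (hq : ∀ j, q ≠ r j) : (pB r a).eval q ≠ 0 := by
  simp [pB, eval_prod, Finset.prod_ne_zero_iff, sub_ne_zero, hq]

/-- Order of vanishing. -/
lemma order (q : k) (hq : ∀ j, q ≠ r j) (n : ℕ) (P : Polynomial k) (h : (X - C q) ^ n ∣ Φ r a P) :
    ∃ c : k, (X - C q) ^ (n + 1) ∣ P - C c * pB r a := by
  refine ⟨P.eval q / (pB r a).eval q, ?_⟩
  set D := P - C (P.eval q / (pB r a).eval q) * pB r a with hD
  have hΦD : Φ r a D = Φ r a P := by rw [hD, map_sub, ← smul_eq_C_mul, map_smul, Φ_pB, smul_zero, sub_zero]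
  rw [← hΦD] at h
  by_cases hD0 : D = 0
  · rw [hD0]; exact dvd_zero _
  have hroot : D.IsRoot q := by
    simp [hD, IsRoot, div_mul_cancel₀ _ (eval_pB_ne r a q hq)]
  obtain ⟨u, hu, hudvd⟩ := exists_eq_pow_rootMultiplicity_mul_and_not_dvd D hD0 q
  have hpos := (rootMultiplicity_pos hD0).mpr hroot
  obtain ⟨μ, hμ⟩ : ∃ μ, rootMultiplicity q D = μ + 1 := ⟨rootMultiplicity q D - 1, by omega⟩
  rw [hμ] at hu
  have hΦ : Φ r a D = (X - C q) ^ μ *
      (C (μ + 1 : k) * u * pR r + (X - C q) * (derivative u * pR r - u * pS r a)) := by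
    rw [hu, Φ_apply, derivative_mul, derivative_pow_succ, derivative_sub, derivative_X, derivative_C,
      sub_zero, mul_one]
    ring
  have hnd : ¬ (X - C q) ∣ (C (μ + 1 : k) * u * pR r + (X - C q) * (derivative u * pR r - u * pS r a)) := by
    rw [dvd_iff_isRoot, IsRoot]
    simp [eval_pR_ne r q hq, Nat.cast_add_one_ne_zero]
    exact fun h => hudvd (dvd_iff_isRoot.mpr h)
  have hn : n ≤ μ := by
    by_contra hc
    apply hnd
    have h' := (pow_dvd_pow (X - C q) (show μ + 1 ≤ n by omega)).trans h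
    rw [hΦ, pow_succ] at h'
    exact (mul_dvd_mul_iff_left (pow_ne_zero _ (X_sub_C_ne_zero q))).mp h'
  exact (pow_dvd_pow _ (by omega)).trans (Dvd.intro u hu.symm)

/-- The main estimate. -/
theorem main (N : ℕ) (hN : (∑ j, a j) < N) (V₁ : Submodule k (Polynomial k))
    (hV₁ : V₁ ≤ (degreeLT k (N + 1)).map (Φ r a)) (lam : Polynomial k →ₗ[k] k)
    (hlam : ∀ P ∈ degreeLT k (N + 1), Φ r a P ∈ V₁ → lam P = 0) (hlamB : lam (pB r a) = 0)
    (q : k) (hq : ∀ j, q ≠ r j) :
    (V₁ ⊓ (Ideal.span {(X - C q) ^ N}).restrictScalars k) = ⊥ ∧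
    (¬ (lam ((X - C q) ^ N) = 0 ∧ (1 ≤ N → lam ((X - C q) ^ (N - 1)) = 0)) →
      Module.finrank k ↥(V₁ ⊓ (Ideal.span {(X - C q) ^ (N - 2)}).restrictScalars k) ≤ 1) ∧
    ((V₁ ⊓ (Ideal.span {(X - C q) ^ (N - 1)}).restrictScalars k) ≠ ⊥ → lam ((X - C q) ^ N) = 0) := by
  have key : ∀ (n : ℕ) (f : Polynomial k), n ≤ N → f ∈ V₁ → (X - C q) ^ n ∣ f →
      ∃ w : Polynomial k, w.degree < ((N - n : ℕ) : WithBot ℕ) ∧ f = Φ r a ((X - C q) ^ (n + 1) * w) ∧
        lam ((X - C q) ^ (n + 1) * w) = 0 := by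
    intro n f hn hf hdvd
    obtain ⟨P, hP, rfl⟩ := hV₁ hf
    obtain ⟨c, hc⟩ := order r a q hq n P hdvd
    obtain ⟨w, hw⟩ := hc
    have hΦ : Φ r a ((X - C q) ^ (n + 1) * w) = Φ r a P := by
      rw [← hw, map_sub, ← smul_eq_C_mul, map_smul, Φ_pB, smul_zero, sub_zero]
    have hB : pB r a ∈ degreeLT k (N + 1) := by
      rw [mem_degreeLT, degree_eq_natDegree (pB_monic r a).ne_zero, pB_natDegree]
      exact_mod_cast Nat.lt_succ_of_lt hN
    have hmem : (X - C q) ^ (n + 1) * w ∈ degreeLT k (N + 1) := by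
      rw [← hw, ← smul_eq_C_mul]; exact sub_mem hP (Submodule.smul_mem _ _ hB)
    refine ⟨w, ?_, hΦ.symm, hlam _ hmem (hΦ ▸ hf)⟩
    by_cases hw0 : w = 0
    · rw [hw0, degree_zero]; exact WithBot.bot_lt_coe _
    rw [mem_degreeLT, degree_mul, degree_pow, degree_X_sub_C, nsmul_one, degree_eq_natDegree hw0] at hmem
    rw [degree_eq_natDegree hw0]
    have : n + 1 + w.natDegree < N + 1 := by exact_mod_cast hmem
    exact_mod_cast (by omega : w.natDegree < N - n)
  refine ⟨(Submodule.eq_bot_iff _).mpr fun f hf => ?_, fun hne => ?_, fun hne => ?_⟩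
  · obtain ⟨w, hw, rfl, -⟩ := key N f le_rfl hf.1 (Ideal.mem_span_singleton.mp hf.2)
    rw [Nat.sub_self, Nat.cast_zero, Nat.WithBot.lt_zero_iff, degree_eq_bot] at hw
    rw [hw, mul_zero, map_zero]
  · rcases Nat.lt_or_ge N 2 with hN2 | hN2
    · have h1 := finrank_map r a (N + 1) (Nat.lt_succ_of_lt hN)
      haveI : Module.Finite k ↥(degreeLT k (N + 1)) := Module.Finite.equiv (degreeLTEquiv k (N + 1)).symm
      exact le_trans (Submodule.finrank_mono (inf_le_left.trans hV₁)) (by omega)
    set g : Polynomial k := Φ r a (C (lam ((X - C q) ^ (N - 1))) * (X - C q) ^ N - C (lam ((X - C q) ^ N)) * (X - C q) ^ (N - 1))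
    refine le_trans (Submodule.finrank_mono (t := Submodule.span k {g}) fun f hf => ?_)
      (le_trans (finrank_span_le_card _) (by simp))
    obtain ⟨w, hw, rfl, hw2⟩ := key (N - 2) f (by omega) hf.1 (Ideal.mem_span_singleton.mp hf.2)
    rw [show N - (N - 2) = 2 by omega] at hw
    have hw' := eq_X_add_C_of_degree_le_one (Order.le_of_lt_succ (by exact_mod_cast hw) : w.degree ≤ 1)
    set u := w.coeff 1
    set v := w.coeff 0 + w.coeff 1 * q
    have hD : (X - C q) ^ (N - 2 + 1) * w = C u * (X - C q) ^ N + C v * (X - C q) ^ (N - 1) := by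
      rw [hw', show N - 2 + 1 = N - 1 by omega, show (X - C q) ^ N = (X - C q) ^ (N - 1) * (X - C q) by
        rw [← pow_succ, Nat.sub_add_cancel (by omega)]]
      simp [u, v]
      ring
    rw [hD, map_add, ← smul_eq_C_mul, ← smul_eq_C_mul, map_smul, map_smul, smul_eq_mul, smul_eq_mul] at hw2
    rw [hD, Submodule.mem_span_singleton]
    by_cases h1 : lam ((X - C q) ^ (N - 1)) = 0
    · have h2 : lam ((X - C q) ^ N) ≠ 0 := fun h2 => hne ⟨h2, fun _ => h1⟩
      rw [h1, mul_zero, add_zero, mul_eq_zero] at hw2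
      refine ⟨-v / lam ((X - C q) ^ N), ?_⟩
      rw [← map_smul]
      refine congrArg _ ?_
      rw [h1, map_zero, zero_mul, zero_sub, smul_neg, smul_eq_C_mul, ← mul_assoc, ← C_mul,
        div_mul_cancel₀ _ h2, map_neg, neg_mul, neg_neg]
      simp [hw2.resolve_right h2]
    · refine ⟨u / lam ((X - C q) ^ (N - 1)), ?_⟩
      rw [← map_smul]
      refine congrArg _ ?_
      rw [smul_eq_C_mul, mul_sub, ← mul_assoc, ← mul_assoc, ← C_mul, ← C_mul, div_mul_cancel₀ _ h1,
        show v = -(u / lam ((X - C q) ^ (N - 1)) * lam ((X - C q) ^ N)) by field_simp; linear_combination hw2,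
        map_neg, neg_mul, ← sub_eq_add_neg]
  · obtain ⟨f, hf, hf0⟩ := Submodule.exists_mem_ne_zero_of_ne_bot hne
    obtain ⟨w, hw, rfl, hw2⟩ := key (N - 1) f (by omega) hf.1 (Ideal.mem_span_singleton.mp hf.2)
    rw [show N - (N - 1) = 1 by omega] at hw
    have hw' := eq_C_of_degree_le_zero (Order.le_of_lt_succ (by exact_mod_cast hw) : w.degree ≤ 0)
    have hc : w.coeff 0 ≠ 0 := fun h => hf0 (by rw [hw', h, map_zero, mul_zero, map_zero])
    rw [hw', mul_comm, ← smul_eq_C_mul, map_smul, smul_eq_mul, mul_eq_zero,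
      show N - 1 + 1 = N by omega] at hw2
    exact hw2.resolve_left hc

end Groth.Agent.PolyOsc
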